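import Groth.Agent.Snapper.DimVanish
import Groth.Agent.PnCoh.Finite.SerreVanishing
import Groth.Agent.Lib.Euler
import Groth.Agent.LerayEuler.Main
import Groth.Agent.FFun.Basic
import Groth.Agent.VolLib.GenRank
import Groth.Agent.VarDim.Basic

/-!
# Cohomological dimension is detected on a class of modules covering all coherent ones
-/

noncomputable section

set_option autoImplicit false
set_option linter.style.haveILetI false
set_option backward.isDefEq.respectTransparency false
set_option backward.isDefEq.respectTransparency.types false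

universe u
open CategoryTheory CategoryTheory.Limits AlgebraicGeometry TopologicalSpace
open Groth.Agent.PnCoh.Finite (mapLin deltaLin)

namespace Groth.Agent.CdRed

open Groth.Agent

variable (k : Type u) [Field k] (S : Scheme.{u}) [S.Over (Spec (CommRingCat.of k))]
  [LocallyOfFiniteType (S ↘ Spec (CommRingCat.of k))] [QuasiCompact (S ↘ Spec (CommRingCat.of k))]
  [IsSeparated (S ↘ Spec (CommRingCat.of k))]

include k in
theorem isNoetherian : IsNoetherian S := by
  haveI : IsLocallyNoetherian S := LocallyOfFiniteType.isLocallyNoetherian (S ↘ Spec (CommRingCat.of k))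
  haveI : CompactSpace S := QuasiCompact.compactSpace_of_compactSpace (S ↘ Spec (CommRingCat.of k))
  exact {}

include k in
theorem isSeparated_scheme : S.IsSeparated := by
  refine ⟨?_⟩
  rw [← terminal.comp_from (S ↘ Spec (CommRingCat.of k))]
  infer_instance

include k in
theorem exists_dim_le [IsIntegral S] : ∃ d : ℕ, topologicalKrullDim S ≤ (d : WithBot ℕ∞) :=
  ⟨_, (VarDim.topologicalKrullDim_eq_deg_genericPoint (S ↘ Spec (CommRingCat.of k))).le⟩

include k in
/-- Vanishing passes from a covering class to all coherent modules. -/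
theorem vanish [IsIntegral S] (r : ℕ)
    (h : ∀ F : S.Modules, Coh.IsCoh F → ∃ (E : S.Modules) (p : E ⟶ F), Coh.IsCoh E ∧ Epi p ∧
      ∀ i, r < i → Subsingleton (Coh.HH S E i))
    {F : S.Modules} (hF : Coh.IsCoh F) {i : ℕ} (hi : r < i) : Subsingleton (Coh.HH S F i) := by
  haveI := isNoetherian k S
  haveI := isSeparated_scheme k S
  obtain ⟨d, hd⟩ := exists_dim_le k S
  suffices h' : ∀ (m i : ℕ), d + 1 ≤ i + m → r < i → ∀ F : S.Modules, Coh.IsCoh F → Subsingleton (Coh.HH S F i) from
    h' (d + 1) i (Nat.le_add_left _ _) hi F hF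
  intro m
  induction m with
  | zero => exact fun i hi _ F hF => Snapper.subsingleton_HH_of_dim_le hd hF.1 (by omega)
  | succ m ih =>
    intro i hi hri F hF
    obtain ⟨E, p, hE, hp, hvan⟩ := h F hF
    have hS : (ShortComplex.mk (kernel.ι p) p (kernel.condition p)).ShortExact :=
      .mk' (ShortComplex.exact_of_f_is_kernel _ (kernelIsKernel p)) inferInstance hp
    exact PnCoh.Finite.subsingleton_HH_X₃ hS i (hvan i hri)
      (ih (i + 1) (by omega) (by omega) _ (QCoh.isCoh_kernel hE hF p))

include k in
/-- Finiteness passes from a covering class to all coherent modules. -/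
theorem finite [IsIntegral S] (r : ℕ)
    (h : ∀ F : S.Modules, Coh.IsCoh F → ∃ (E : S.Modules) (p : E ⟶ F), Coh.IsCoh E ∧ Epi p ∧
      ∀ i, r < i → Module.Finite k (Coh.HH S E i))
    {F : S.Modules} (hF : Coh.IsCoh F) {i : ℕ} (hi : r < i) : Module.Finite k (Coh.HH S F i) := by
  haveI := isNoetherian k S
  haveI := isSeparated_scheme k S
  obtain ⟨d, hd⟩ := exists_dim_le k S
  suffices h' : ∀ (m i : ℕ), d + 1 ≤ i + m → r < i → ∀ F : S.Modules, Coh.IsCoh F → Module.Finite k (Coh.HH S F i) from
    h' (d + 1) i (Nat.le_add_left _ _) hi F hF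
  intro m
  induction m with
  | zero =>
    intro i hi _ F hF
    haveI := Snapper.subsingleton_HH_of_dim_le hd hF.1 (show d < i by omega)
    exact ⟨⟨∅, Subsingleton.elim _ _⟩⟩
  | succ m ih =>
    intro i hi hri F hF
    obtain ⟨E, p, hE, hp, hfin⟩ := h F hF
    have hS : (ShortComplex.mk (kernel.ι p) p (kernel.condition p)).ShortExact :=
      .mk' (ShortComplex.exact_of_f_is_kernel _ (kernelIsKernel p)) inferInstance hp
    haveI := hfin i hri
    haveI : Module.Finite k (Coh.HH S (kernel p) (i + 1)) := ih (i + 1) (by omega) (by omega) _ (QCoh.isCoh_kernel hE hF p)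
    exact LerayEuler.finite_of_exact (mapLin k p i) (deltaLin k hS i) (Euler.range_mapLin_g k hS i)

omit [LocallyOfFiniteType (S ↘ Spec (CommRingCat.of k))] [QuasiCompact (S ↘ Spec (CommRingCat.of k))]
  [IsSeparated (S ↘ Spec (CommRingCat.of k))] in
include k in
/-- Free modules inherit vanishing. -/
theorem subsingleton_free (T : S.Modules ⥤ S.Modules) [T.Additive] (r i : ℕ)
    (h : Subsingleton (Coh.HH S (T.obj (Coh.structureModule S)) i)) :
    Subsingleton (Coh.HH S (T.obj (FlatMod.freeMod S r)) i) := by
  classical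
  let a : Fin r → (Coh.structureModule S ⟶ FlatMod.freeMod S r) :=
    fun l => Sigma.ι (fun _ : Fin r => Coh.structureModule S) l
  refine subsingleton_of_forall_eq 0 fun y => ?_
  have h1 : y = mapLin k (T.map (∑ l, KFlatLib.projFree S l ≫ a l)) i y := by
    show y = Sheaf.H.map ((QCoh.toAbFunctor S).map (T.map (∑ l, KFlatLib.projFree S l ≫ a l))) i y
    rw [KFlatLib.sum_projF, CategoryTheory.Functor.map_id, CategoryTheory.Functor.map_id, Sheaf.H.map_id_apply]
  rw [h1, T.map_sum, VolLib.mapLin_sum']
  refine Finset.sum_eq_zero fun l _ => ?_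
  rw [T.map_comp, ← FFun.mapLin_comp, Subsingleton.elim (mapLin k (T.map (KFlatLib.projFree S l)) i y) 0, map_zero]

end Groth.Agent.CdRed
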